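import Groth.Agent.W4Hilb.HJ

/-! # Three-variable monomials against the Hirzebruch–Jung exponents -/

namespace Groth.Agent.W4Hilb

open W4c2invhilbsl2

variable {p q m : ℕ} {c : List ℤ}

theorem Facts.lL_mul (F : Facts p q m c) (i : ℕ) :
    lL p q m c i * ((q : ℤ) - p) = nN p q m c i + p * m * hjP c i := by
  simp only [nN, eE, lL]; push_cast; ring

theorem eE_eq (p q m : ℕ) (c : List ℤ) (i : ℕ) : eE p q m c i = lL p q m c i + m * hjP c i := by
  simp only [eE, lL]; push_cast; ring

theorem Facts.nN_lt (F : Facts p q m c) (hpq : p < q) {i : ℕ} (hi : 1 ≤ i) (hir : i ≤ c.length) :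
    0 < nN p q m c i ∧ nN p q m c i < (q : ℤ) - p ∧ nN p q m c i < nN p q m c (i - 1) ∧
      nN p q m c (i - 1) ≤ (q : ℤ) - p := by
  obtain ⟨j, rfl⟩ := Nat.exists_eq_add_of_le hi
  rw [Nat.add_sub_cancel_left, add_comm 1 j, F.nN_eq, F.nN_eq, F.gb]
  have hg : (0 : ℤ) < gcdK p q m := by exact_mod_cast F.gpos
  have h1 := F.lt_succ j (by omega)
  have h2 := F.le_b j (by omega)
  have h3 := F.pos (j + 1) (by omega)
  refine ⟨by positivity, ?_, ?_, ?_⟩ <;> nlinarith

theorem Facts.exp_nonneg (F : Facts p q m c) (hpq : p < q) {i : ℕ} (hi : 1 ≤ i) (hir : i ≤ c.length) :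
    0 ≤ eE p q m c i ∧ 0 ≤ lL p q m c i := by
  obtain ⟨h0, -⟩ := F.nN_lt hpq hi hir
  obtain ⟨j, rfl⟩ := Nat.exists_eq_add_of_le hi
  obtain ⟨hlt, hP⟩ := hjP_lt c F.two_le j (by omega)
  have hP1 : 0 ≤ hjP c (1 + j) := by rw [add_comm]; omega
  have hd : (0 : ℤ) < (q : ℤ) - p := by omega
  have hl : 0 ≤ lL p q m c (1 + j) := nonneg_of_mul_nonneg_left (by rw [F.lL_mul]; positivity) hd
  exact ⟨by rw [eE_eq]; positivity, hl⟩

/-- A monomial of the weight of `n_i` which is not divisible by `X₀^{n_i}` is divisible by `X₁^{e_i} X₂^{l_i}`. -/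
theorem Facts.exp_le (F : Facts p q m c) (hpq : p < q) {i : ℕ} (hi : 1 ≤ i) (hir : i ≤ c.length) (a u v : ℕ)
    (x : ℤ) (hn : (a : ℤ) - p * u + q * v = nN p q m c i) (hz : (u : ℤ) - v = m * x) (ha : (a : ℤ) < nN p q m c i) :
    eE p q m c i ≤ u ∧ lL p q m c i ≤ v := by
  have hN := F.nN_lt hpq hi hir
  obtain ⟨j, rfl⟩ := Nat.exists_eq_add_of_le hi
  rw [add_comm 1 j] at hn ha hN ⊢
  set n := nN p q m c (j + 1)
  set D := (q : ℤ) - p with hD
  have hDpos : 0 < D := by omega
  have hv : D * v = n - a + p * m * x := by linear_combination hn + (p : ℤ) * hz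
  have hu : D * u = n - a + q * m * x := by linear_combination hn + (q : ℤ) * hz
  have hx : 0 < x := by
    by_contra h
    push Not at h
    rcases h.lt_or_eq with h | h
    · have h1 : m * x = (u : ℤ) - v := hz.symm
      rcases Nat.eq_zero_or_pos m with hm | hm
      · subst hm
        have h2 : D * v = n - a := by simpa using hv
        rcases (Nat.eq_zero_or_pos v) with hv0 | hv0
        · subst hv0; simp at h2; omega
        · have : D ≤ D * v := le_mul_of_one_le_right hDpos.le (by exact_mod_cast hv0)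
          omega
      · have : (1 : ℤ) ≤ m := by exact_mod_cast hm
        have h2 : (q : ℤ) * (m * x) ≤ q * (-1) := mul_le_mul_of_nonneg_left (by nlinarith) (by positivity)
        nlinarith [mul_nonneg hDpos.le (Int.natCast_nonneg u)]
    · subst h
      rcases (Nat.eq_zero_or_pos v) with hv0 | hv0
      · subst hv0; simp at hv; omega
      · have h2 : D * v = n - a := by simpa using hv
        have : D ≤ D * v := le_mul_of_one_le_right hDpos.le (by exact_mod_cast hv0)
        omega
  set g := (gcdK p q m : ℤ)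
  set t := (tT p q m : ℤ)
  set b := (bB p q m : ℤ)
  have hg : 0 < g := by simp only [g]; exact_mod_cast F.gpos
  have hgb : D = g * b := F.gb
  have hgt := F.gt
  set R := t * x + b * (v - ((alpha p q m + 1 : ℕ) : ℤ) * x)
  have hR : n - a = g * R := by
    simp only [R]
    linear_combination -hv + ((v : ℤ) - ((alpha p q m + 1 : ℕ) : ℤ) * x) * hgb + x * hgt
  have hNe := F.nN_eq (j + 1)
  set V := NN (tT p q m) (bB p q m) c (j + 1)
  have hR0 : 0 < R := pos_of_mul_pos_right (hR ▸ (by omega)) hg.le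
  have hRV : R ≤ V := le_of_mul_le_mul_left (by rw [← hR, ← hNe]; omega) hg
  have hb : 0 < b := by
    simp only [b]; exact_mod_cast F.tpos.trans F.tlt
  have hVb : V < b := lt_of_mul_lt_mul_left (by rw [← hNe, ← hgb]; exact hN.2.1) hg.le
  have hxP : hjP c (j + 1) ≤ x := by
    by_contra h
    push Not at h
    have h1 := (F.bounds j (by omega) x hx h).1
    have h2 : t * x % b = R := by
      rw [← Int.emod_eq_of_lt hR0.le (hRV.trans_lt hVb)]
      simp [R]
    rw [h2] at h1
    have := F.lt_succ j (by omega)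
    omega
  have hl : lL p q m c (j + 1) ≤ v := by
    by_contra h
    push Not at h
    have h1 : D * v + D ≤ D * lL p q m c (j + 1) := by nlinarith
    have h2 := F.lL_mul (j + 1)
    have h3 : (p : ℤ) * m * hjP c (j + 1) ≤ p * m * x := mul_le_mul_of_nonneg_left hxP (by positivity)
    rw [mul_comm D (lL p q m c (j + 1)), h2, hv] at h1
    omega
  refine ⟨?_, hl⟩
  rw [eE_eq]
  have : (m : ℤ) * hjP c (j + 1) ≤ m * x := mul_le_mul_of_nonneg_left hxP (by positivity)
  omega

end Groth.Agent.W4Hilb
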