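import Groth.Agent.W4Hilb.Three

/-! # The ideals `idealL` have weight pieces of rank at most one -/

namespace Groth.Agent.W4Hilb

open MvPolynomial W4c2invhilbsl2

variable {p q m : ℕ} {c : List ℤ}

/-- A monomial whose excess over another one of the same weight has `x ≥ 0` is proportional to it. -/
theorem Facts.proportional {k : Type*} [Field k] (F : Facts p q m c) (hpq : p < q) {i : ℕ} (hi : 1 ≤ i)
    (hir : i ≤ c.length) (s : k) : ∀ (x : ℕ) (a u v a' u' v' : ℕ),
      (a' : ℤ) < nN p q m c (i - 1) → (a : ℤ) - p * u + q * v = a' - p * u' + q * v' →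
      ((u : ℤ) - v) - ((u' : ℤ) - v') = m * x →
      ∃ co : k, monomial (v3 a u v) (1 : k) - C co * monomial (v3 a' u' v') 1 ∈ idealL k p q m c i s := by
  intro x
  induction x using Nat.strong_induction_on with
  | _ x ih =>
    intro a u v a' u' v' ha' hn hx
    obtain ⟨hn0, hnD, hnlt, hn1D⟩ := F.nN_lt hpq hi hir
    obtain ⟨he0, hl0⟩ := F.exp_nonneg hpq hi hir
    have hdiv0 : ∀ d : Fin 3 →₀ ℕ, ∀ f ∈ idealK k p q m, monomial d (1 : k) * f ∈ idealL k p q m c i s :=
      fun d f hf => Ideal.mul_mem_left _ _ (Submodule.mem_sup_right hf)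
    by_cases hbig : nN p q m c (i - 1) ≤ a
    · obtain ⟨j, rfl⟩ : ∃ j, a = (nN p q m c (i - 1)).toNat + j := Nat.exists_eq_add_of_le (by omega)
      refine ⟨0, ?_⟩
      rw [map_zero, zero_mul, sub_zero, mono3, pow_add, mul_assoc, mul_assoc]
      exact Ideal.mul_mem_right _ _ (Submodule.mem_sup_left (Ideal.subset_span (Or.inl rfl)))
    push Not at hbig
    set D := (q : ℤ) - p with hDdef
    have hv : D * ((v : ℤ) - v') = p * m * x - ((a : ℤ) - a') := by linear_combination hn + (p : ℤ) * hx
    rcases Nat.eq_zero_or_pos x with h0 | h0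
    · subst h0
      simp only [Nat.cast_zero, mul_zero, zero_sub] at hv hx
      have hvv : (v : ℤ) = v' := by
        by_contra hne
        rcases lt_or_gt_of_ne hne with h | h
        · have : D * ((v : ℤ) - v') ≤ D * (-1) := mul_le_mul_of_nonneg_left (by omega) (by omega)
          omega
        · have : D * 1 ≤ D * ((v : ℤ) - v') := mul_le_mul_of_nonneg_left (by omega) (by omega)
          omega
      have haa : a = a' := by rw [hvv, sub_self, mul_zero] at hv; omega
      refine ⟨1, ?_⟩
      rw [haa, show u = u' by omega, show v = v' by omega, C_1, one_mul, sub_self]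
      exact Ideal.zero_mem _
    set g := (gcdK p q m : ℤ)
    set t := (tT p q m : ℤ)
    set b := (bB p q m : ℤ)
    have hg : 0 < g := by simp only [g]; exact_mod_cast F.gpos
    have hgb : D = g * b := F.gb
    have hgt := F.gt
    have hDpos : 0 < D := by omega
    have hpm : (0 : ℤ) ≤ p * m * x := by positivity
    have hvle : (v' : ℤ) ≤ v := by
      by_contra h
      have : D * ((v : ℤ) - v') ≤ D * (-1) := mul_le_mul_of_nonneg_left (by omega) hDpos.le
      omega
    have hmx : (0 : ℤ) ≤ m * x := by positivity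
    by_cases hpos : (a' : ℤ) ≤ a
    · refine ⟨0, ?_⟩
      obtain ⟨A, rfl⟩ : ∃ j, a = a' + j := Nat.exists_eq_add_of_le (by omega)
      obtain ⟨V, rfl⟩ : ∃ j, v = v' + j := Nat.exists_eq_add_of_le (by omega)
      obtain ⟨U, rfl⟩ : ∃ j, u = u' + j := Nat.exists_eq_add_of_le (by omega)
      rw [map_zero, zero_mul, sub_zero, show v3 (a' + A) (u' + U) (v' + V) = v3 a' u' v' + v3 A U V by
        ext j; fin_cases j <;> rfl, show (monomial (v3 a' u' v' + v3 A U V) (1 : k)) =
          monomial (v3 a' u' v') 1 * monomial (v3 A U V) 1 by rw [monomial_mul, mul_one]]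
      refine hdiv0 _ _ (Ideal.subset_span ⟨v3 A U V, fun h0' => ?_, ?_, rfl⟩)
      · have hA : A = 0 := DFunLike.congr_fun h0' (0 : Fin 3)
        have hU : U = 0 := DFunLike.congr_fun h0' (1 : Fin 3)
        have hV : V = 0 := DFunLike.congr_fun h0' (2 : Fin 3)
        subst hA hU hV
        have hm0 : (m : ℤ) * x = 0 := by push_cast at hx; linear_combination -hx
        rcases mul_eq_zero.mp hm0 with hm | hm
        · have hm' : m = 0 := by exact_mod_cast hm
          subst hm'
          have := F.tlt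
          have h1 := F.gpos
          simp [gcdK, bB, tT, Nat.gcd_zero_left, Nat.div_self (Nat.sub_pos_of_lt hpq)] at this
        · omega
      · refine (weight3 p q m A U V 0 0).mpr ⟨by push_cast at hn; linear_combination hn, ?_⟩
        rw [← Int.cast_zero]
        exact cast_eq_cast.mpr ⟨x, by push_cast at hx; linear_combination hx⟩
    -- now `a < a'`
    push Not at hpos
    set R := t * x + b * ((v : ℤ) - v' - ((alpha p q m + 1 : ℕ) : ℤ) * x)
    have hR : (a' : ℤ) - a = g * R := by
      simp only [R]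
      linear_combination -hv + ((v : ℤ) - v' - ((alpha p q m + 1 : ℕ) : ℤ) * x) * hgb + (x : ℤ) * hgt
    have hR0 : 0 < R := pos_of_mul_pos_right (hR ▸ (by omega)) hg.le
    obtain ⟨j, rfl⟩ : ∃ j, i = j + 1 := ⟨i - 1, by omega⟩
    simp only [Nat.add_sub_cancel] at ha' hn1D hbig hnlt
    have hNej := F.nN_eq j
    set Uj := NN (tT p q m) (bB p q m) c j
    have hRU : R < Uj := lt_of_mul_lt_mul_left (by rw [← hR, ← hNej]; omega) hg.le
    have hxP : hjP c (j + 1) ≤ x := by
      by_contra h
      push Not at h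
      have h1 := (F.bounds j (by omega) x (by omega) h).1
      have h2 : t * x % b = R := by
        rw [← Int.emod_eq_of_lt hR0.le (hRU.trans_le (F.le_b j (by omega)))]
        simp only [R]
        exact (Int.add_mul_emod_self_left _ _ _).symm
      rw [h2] at h1
      omega
    have hPpos : 0 < hjP c (j + 1) := by
      obtain ⟨h1, h2⟩ := hjP_lt c F.two_le j (by omega)
      omega
    obtain ⟨P, hP⟩ := Int.eq_ofNat_of_zero_le hPpos.le
    obtain ⟨N, hN⟩ := Int.eq_ofNat_of_zero_le hn0.le
    obtain ⟨E, hE⟩ := Int.eq_ofNat_of_zero_le he0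
    obtain ⟨L, hL⟩ := Int.eq_ofNat_of_zero_le hl0
    have hll : lL p q m c (j + 1) ≤ (v : ℤ) - v' := by
      by_contra h
      have h1 : D * ((v : ℤ) - v') + D ≤ D * lL p q m c (j + 1) := by nlinarith
      have h2 := F.lL_mul (j + 1)
      have h3 : (p : ℤ) * m * hjP c (j + 1) ≤ p * m * x := mul_le_mul_of_nonneg_left hxP (by positivity)
      rw [mul_comm D (lL p q m c (j + 1)), h2, hv] at h1
      omega
    have hel : eE p q m c (j + 1) ≤ (u : ℤ) - u' := by
      rw [eE_eq]
      have : (m : ℤ) * hjP c (j + 1) ≤ m * x := mul_le_mul_of_nonneg_left hxP (by positivity)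
      omega
    obtain ⟨V, rfl⟩ : ∃ j, v = L + j := Nat.exists_eq_add_of_le (by omega)
    obtain ⟨U, rfl⟩ : ∃ j, u = E + j := Nat.exists_eq_add_of_le (by omega)
    have hdef : -(p : ℤ) * E + q * L = N := by rw [← hN, ← hE, ← hL]; rfl
    have hEL : (E : ℤ) = L + m * P := by rw [← hE, ← hL, ← hP]; exact eE_eq p q m c (j + 1)
    obtain ⟨co, hco⟩ := ih (x - P) (by omega) (a + N) U V a' u' v' (by simpa using ha')
      (by push_cast at hn ⊢; linear_combination hn - hdef)
      (by push_cast [Nat.cast_sub (show P ≤ x by omega)] at hx ⊢; linear_combination hx - hEL)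
    refine ⟨s * co, ?_⟩
    have hgen : C s * X 0 ^ N - X 1 ^ E * X 2 ^ L ∈ idealL k p q m c (j + 1) s := by
      refine Submodule.mem_sup_left (Ideal.subset_span (Or.inr ?_))
      rw [hN, hE, hL]
      simp only [Int.toNat_natCast]
      rfl
    rw [show monomial (v3 a (E + U) (L + V)) (1 : k) - C (s * co) * monomial (v3 a' u' v') 1 =
        C s * (monomial (v3 (a + N) U V) 1 - C co * monomial (v3 a' u' v') 1) -
          monomial (v3 a U V) 1 * (C s * X 0 ^ N - X 1 ^ E * X 2 ^ L) by
      simp only [mono3, map_mul, pow_add]; ring]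
    exact Ideal.sub_mem _ (Ideal.mul_mem_left _ _ hco) (Ideal.mul_mem_left _ _ hgen)

theorem rank_idealL {k : Type*} [Field k] (F : Facts p q m c) (hpq : p < q) {i : ℕ} (hi : 1 ≤ i)
    (hir : i ≤ c.length) (s : k) (ν : ℤ × ZMod m) :
    Module.rank k (piece k (wt3 p q m) (idealL k p q m c i s) ν) ≤ 1 := by
  refine rank_piece_le_one fun d d' hd hd' => ?_
  rw [eq_v3 d] at hd ⊢
  rw [eq_v3 d'] at hd' ⊢
  obtain ⟨n, z⟩ := ν
  obtain ⟨hn, hz⟩ := (weight3 p q m _ _ _ _ _).mp hd
  obtain ⟨hn', hz'⟩ := (weight3 p q m _ _ _ _ _).mp hd'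
  generalize d 0 = a, d 1 = u, d 2 = v at hn hz hd ⊢
  generalize d' 0 = a', d' 1 = u', d' 2 = v' at hn' hz' hd' ⊢
  have hbad : ∀ a u v : ℕ, ¬ (a : ℤ) < nN p q m c (i - 1) →
      monomial (v3 a u v) (1 : k) ∈ idealL k p q m c i s := by
    intro a u v h
    obtain ⟨j, rfl⟩ : ∃ j, a = (nN p q m c (i - 1)).toNat + j := Nat.exists_eq_add_of_le (by omega)
    rw [mono3, pow_add, mul_assoc, mul_assoc]
    exact Ideal.mul_mem_right _ _ (Submodule.mem_sup_left (Ideal.subset_span (Or.inl rfl)))
  by_cases ha : (a : ℤ) < nN p q m c (i - 1)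
  swap
  · exact Or.inl ⟨0, by simpa using hbad a u v ha⟩
  by_cases ha' : (a' : ℤ) < nN p q m c (i - 1)
  swap
  · exact Or.inr ⟨0, by simpa using hbad a' u' v' ha'⟩
  obtain ⟨z₀, hz₀⟩ := cast_eq_cast.mp (hz.trans hz'.symm)
  rcases Int.eq_nat_or_neg z₀ with ⟨x, rfl | rfl⟩
  · exact Or.inl (F.proportional hpq hi hir s x a u v a' u' v' ha' (hn.trans hn'.symm) (by linear_combination hz₀))
  · exact Or.inr (F.proportional hpq hi hir s x a' u' v' a u v ha (hn'.trans hn.symm) (by linear_combination -hz₀))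

end Groth.Agent.W4Hilb
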