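import Groth.Prelude.Def_W4c2invhilbsl2
import Mathlib

/-! # Monomials in the bigraded rings of weights `wt3`, `wt5` -/

namespace Groth.Agent.W4Hilb

open MvPolynomial

variable {k : Type*} [CommRing k] {σ M : Type*} [AddCommMonoid M]

theorem induction_weighted {w : σ → M} {ν : M} {P : MvPolynomial σ k → Prop} (h0 : P 0)
    (hadd : ∀ a b, P a → P b → P (a + b)) (hmon : ∀ d c, Finsupp.weight w d = ν → P (monomial d c))
    (f : MvPolynomial σ k) (hf : f ∈ weightedHomogeneousSubmodule k w ν) : P f := by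
  have key : ∀ s : Finset (σ →₀ ℕ), (∀ d ∈ s, Finsupp.weight w d = ν) →
      P (∑ d ∈ s, monomial d (f.coeff d)) := by
    classical
    intro s
    induction s using Finset.induction_on with
    | empty => intro _; simpa using h0
    | insert a s ha ih =>
      intro h
      rw [Finset.sum_insert ha]
      exact hadd _ _ (hmon _ _ (h a (Finset.mem_insert_self a s))) (ih fun d hd => h d (Finset.mem_insert_of_mem hd))
  rw [f.as_sum]
  exact key _ fun d hd => hf (MvPolynomial.mem_support_iff.mp hd)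

theorem monomial_mem {w : σ → M} (d : σ →₀ ℕ) (c : k) (ν : M) (h : Finsupp.weight w d = ν) :
    monomial d c ∈ weightedHomogeneousSubmodule k w ν :=
  isWeightedHomogeneous_monomial w d c h

/-- A quotient piece spanned by pairwise proportional monomials has rank at most one. -/
theorem rank_piece_le_one {k : Type*} [Field k] {w : σ → M} {I : Ideal (MvPolynomial σ k)} {ν : M}
    (h : ∀ d d' : σ →₀ ℕ, Finsupp.weight w d = ν → Finsupp.weight w d' = ν →
      (∃ c : k, monomial d (1 : k) - C c * monomial d' 1 ∈ I) ∨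
      (∃ c : k, monomial d' (1 : k) - C c * monomial d 1 ∈ I)) :
    Module.rank k (W4c2invhilbsl2.piece k w I ν) ≤ 1 := by
  classical
  set π := (Ideal.Quotient.mkₐ k I).toLinearMap with hπ
  have hsub : ∀ d d' (c : k), monomial d (1 : k) - C c * monomial d' 1 ∈ I →
      π (monomial d 1) = c • π (monomial d' 1) := by
    intro d d' c hc
    rw [← map_smul, smul_eq_C_mul]
    exact (Ideal.Quotient.mk_eq_mk_iff_sub_mem _ _).mpr hc
  have hex : ∃ x, W4c2invhilbsl2.piece k w I ν ≤ Submodule.span k {x} := by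
    have hle : ∀ x, (∀ d, Finsupp.weight w d = ν → π (monomial d (1 : k)) ∈ Submodule.span k {x}) →
        W4c2invhilbsl2.piece k w I ν ≤ Submodule.span k {x} := by
      intro x hx
      rintro _ ⟨f, hf, rfl⟩
      refine induction_weighted (P := fun f => π f ∈ Submodule.span k {x}) (by simp)
        (fun a b ha hb => by simpa only [map_add] using add_mem ha hb) (fun d c hd => ?_) f hf
      rw [show monomial d c = c • monomial d (1 : k) by simp [smul_monomial], map_smul]
      exact Submodule.smul_mem _ c (hx d hd)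
    by_cases hz : ∀ d, Finsupp.weight w d = ν → π (monomial d (1 : k)) = 0
    · exact ⟨0, hle 0 fun d hd => by rw [hz d hd]; exact zero_mem _⟩
    · push Not at hz
      obtain ⟨d₀, hd₀, hne⟩ := hz
      refine ⟨π (monomial d₀ 1), hle _ fun d hd => Submodule.mem_span_singleton.mpr ?_⟩
      rcases h d d₀ hd hd₀ with ⟨c, hc⟩ | ⟨c, hc⟩
      · exact ⟨c, (hsub _ _ _ hc).symm⟩
      · have h1 := hsub _ _ _ hc
        have hc0 : c ≠ 0 := fun h0 => hne (by rw [h1, h0, zero_smul])
        exact ⟨c⁻¹, by rw [h1, smul_smul, inv_mul_cancel₀ hc0, one_smul]⟩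
  obtain ⟨x, hx⟩ := hex
  refine (Submodule.rank_mono hx).trans ((rank_span_le {x}).trans ?_)
  simp

/-- Exponent vectors in three variables. -/
noncomputable def v3 (a b c : ℕ) : Fin 3 →₀ ℕ := Finsupp.equivFunOnFinite.symm ![a, b, c]

/-- Exponent vectors in five variables. -/
noncomputable def v5 (a b c d e : ℕ) : Fin 5 →₀ ℕ := Finsupp.equivFunOnFinite.symm ![a, b, c, d, e]

theorem eq_v3 (d : Fin 3 →₀ ℕ) : d = v3 (d 0) (d 1) (d 2) := by
  ext i; fin_cases i <;> rfl

theorem eq_v5 (d : Fin 5 →₀ ℕ) : d = v5 (d 0) (d 1) (d 2) (d 3) (d 4) := by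
  ext i; fin_cases i <;> rfl

theorem mono3 (a b c : ℕ) : monomial (v3 a b c) (1 : k) = X 0 ^ a * X 1 ^ b * X 2 ^ c := by
  simp only [X_pow_eq_monomial, monomial_mul, mul_one]
  refine congrArg (fun v => monomial v (1 : k)) (Finsupp.ext fun i => ?_)
  fin_cases i <;> simp [v3, Finsupp.single_apply]

theorem mono5 (a b c d e : ℕ) :
    monomial (v5 a b c d e) (1 : k) = X 0 ^ a * X 1 ^ b * X 2 ^ c * X 3 ^ d * X 4 ^ e := by
  simp only [X_pow_eq_monomial, monomial_mul, mul_one]
  refine congrArg (fun v => monomial v (1 : k)) (Finsupp.ext fun i => ?_)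
  fin_cases i <;> simp [v5, Finsupp.single_apply]

theorem weight3 (p q m : ℕ) (a b c : ℕ) (n : ℤ) (z : ZMod m) :
    Finsupp.weight (W4c2invhilbsl2.wt3 p q m) (v3 a b c) = (n, z) ↔
      (a : ℤ) - p * b + q * c = n ∧ ((c : ℤ) - b : ℤ) = (z : ZMod m) := by
  rw [Finsupp.weight_apply, Finsupp.sum_fintype _ _ (fun i => by simp)]
  simp [Fin.sum_univ_three, v3, W4c2invhilbsl2.wt3, Prod.ext_iff]
  constructor <;> rintro ⟨h1, h2⟩ <;> refine ⟨by linear_combination h1, ?_⟩ <;> linear_combination h2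

theorem weight5 (p q m : ℕ) (a b c d e : ℕ) (n : ℤ) (z : ZMod m) :
    Finsupp.weight (W4c2invhilbsl2.wt5 p q m) (v5 a b c d e) = (n, z) ↔
      (a : ℤ) - p * ((b + c : ℕ) : ℤ) + q * ((d + e : ℕ) : ℤ) = n ∧
        (((d + e : ℕ) : ℤ) - ((b + c : ℕ) : ℤ) : ℤ) = (z : ZMod m) := by
  rw [Finsupp.weight_apply, Finsupp.sum_fintype _ _ (fun i => by simp)]
  simp [Fin.sum_univ_five, v5, W4c2invhilbsl2.wt5, Prod.ext_iff]
  constructor <;> rintro ⟨h1, h2⟩ <;> refine ⟨by linear_combination h1, ?_⟩ <;> linear_combination h2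

theorem cast_eq_cast {m : ℕ} {x y : ℤ} : (x : ZMod m) = (y : ZMod m) ↔ ∃ z : ℤ, y = x + m * z := by
  rw [ZMod.intCast_eq_intCast_iff_dvd_sub]
  exact ⟨fun ⟨z, hz⟩ => ⟨z, by linear_combination hz⟩, fun ⟨z, hz⟩ => ⟨z, by linear_combination hz⟩⟩

/-- Two monomials with the same weight and the same `b - c` agree modulo `X₀^Δ - X₁X₂`. -/
theorem rel3 {R : Type*} [CommRing R] (x y z : R) (Δ : ℕ) (hΔ : x ^ Δ = y * z)
    (a b c a' b' c' : ℕ) (h1 : (b : ℤ) - c = b' - c') (h2 : (a : ℤ) + Δ * b = a' + Δ * b') :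
    x ^ a * y ^ b * z ^ c = x ^ a' * y ^ b' * z ^ c' := by
  have key : ∀ (a b c a' b' c' : ℕ), b' ≤ b → (b : ℤ) - c = b' - c' → (a : ℤ) + Δ * b = a' + Δ * b' →
      x ^ a * y ^ b * z ^ c = x ^ a' * y ^ b' * z ^ c' := by
    intro a b c a' b' c' hle h1 h2
    obtain ⟨j, rfl⟩ := Nat.exists_eq_add_of_le hle
    obtain rfl : c = c' + j := by omega
    have ha : a' = a + Δ * j := by
      have : (a' : ℤ) = ((a + Δ * j : ℕ) : ℤ) := by push_cast at h2 ⊢; linear_combination -h2
      exact_mod_cast this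
    rw [ha, pow_add x a, pow_mul, hΔ, mul_pow, pow_add, pow_add]
    ring
  rcases le_total b' b with h | h
  · exact key a b c a' b' c' h h1 h2
  · exact (key a' b' c' a b c h h1.symm h2.symm).symm

end Groth.Agent.W4Hilb
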