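import Groth.Prelude.Def_W4c2invhilbsl2HJ
import Groth.Agent.W4Hilb.Basic

/-! # Hirzebruch–Jung bookkeeping for the three-variable ring -/

namespace Groth.Agent.W4Hilb

open W4c2invhilbsl2

/-- `N_i = n_i / g`. -/
def NN (t b : ℕ) (c : List ℤ) (i : ℕ) : ℤ := (t : ℤ) * hjP c i - (b : ℤ) * hjQ c i

theorem NN_add_two (t b : ℕ) (c : List ℤ) (i : ℕ) :
    NN t b c (i + 2) = c.getD i 0 * NN t b c (i + 1) - NN t b c i := by
  simp only [NN, hjP, hjQ]; ring

theorem det_eq (t b : ℕ) (c : List ℤ) (i : ℕ) :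
    hjP c (i + 1) * NN t b c i - hjP c i * NN t b c (i + 1) = b := by
  induction i with
  | zero => simp [hjP, hjQ, NN]
  | succ i ih =>
    rw [NN_add_two, show hjP c (i + 1 + 1) = c.getD i 0 * hjP c (i + 1) - hjP c i from rfl]
    linear_combination ih

theorem one_lt_hjVal : ∀ (l : List ℤ), l ≠ [] → (∀ x ∈ l, (2 : ℤ) ≤ x) → (1 : ℚ) < HJFrac.hjVal l
  | [], h, _ => absurd rfl h
  | [x], _, h => by
    have : (2 : ℚ) ≤ x := by exact_mod_cast h x (by simp)
    simp [HJFrac.hjVal]; linarith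
  | x :: y :: l, _, h => by
    have hx : (2 : ℚ) ≤ x := by exact_mod_cast h x (by simp)
    have ih := one_lt_hjVal (y :: l) (by simp) fun z hz => h z (by simp [hz])
    rw [HJFrac.hjVal]
    have : (HJFrac.hjVal (y :: l))⁻¹ < 1 := inv_lt_one_of_one_lt₀ ih
    linarith

theorem hjP_lt (c : List ℤ) (hc : ∀ x ∈ c, (2 : ℤ) ≤ x) : ∀ i, i ≤ c.length → hjP c i < hjP c (i + 1) ∧ 0 ≤ hjP c i := by
  intro i
  induction i with
  | zero => intro _; simp [hjP]
  | succ i ih =>
    intro hi
    obtain ⟨h1, h0⟩ := ih (by omega)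
    have h2 : (2 : ℤ) ≤ c.getD i 0 := by
      rw [List.getD_eq_getElem _ _ (by omega)]
      exact hc _ (List.getElem_mem _)
    refine ⟨?_, by omega⟩
    rw [show hjP c (i + 1 + 1) = c.getD i 0 * hjP c (i + 1) - hjP c i from rfl]
    nlinarith

/-- The standing facts. -/
structure Facts (p q m : ℕ) (c : List ℤ) : Prop where
  gpos : 0 < gcdK p q m
  gb : ((q : ℤ) - p) = gcdK p q m * bB p q m
  gt : ((alpha p q m + 1 : ℕ) : ℤ) * ((q : ℤ) - p) - p * m = gcdK p q m * tT p q m
  tpos : 0 < tT p q m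
  tlt : tT p q m < bB p q m
  cop : Nat.Coprime (bB p q m) (tT p q m)
  two_le : ∀ x ∈ c, (2 : ℤ) ≤ x
  nN_eq : ∀ i, nN p q m c i = gcdK p q m * NN (tT p q m) (bB p q m) c i
  lt_succ : ∀ i, i < c.length → NN (tT p q m) (bB p q m) c (i + 1) < NN (tT p q m) (bB p q m) c i
  last : NN (tT p q m) (bB p q m) c c.length = 1
  last_succ : NN (tT p q m) (bB p q m) c (c.length + 1) = 0
  pos : ∀ i, i ≤ c.length → 0 < NN (tT p q m) (bB p q m) c i
  len : 0 < c.length

theorem facts (p q m : ℕ) (hp : 0 < p) (hpq : p < q) (hcop : Nat.Coprime p q) (hnt : ¬ (q - p ∣ m))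
    (c : List ℤ) (hc : IsHJDigits p q m c) : Facts p q m c := by
  obtain ⟨h2, hval⟩ := hc
  set g := gcdK p q m with hgdef
  set b := bB p q m with hbdef
  set t := tT p q m with htdef
  set r := m * p % (q - p) with hrdef
  have hD : 0 < q - p := Nat.sub_pos_of_lt hpq
  have hcp : Nat.Coprime p (q - p) := (Nat.coprime_sub_self_right hpq.le).mpr hcop
  have gpos : 0 < g := Nat.gcd_pos_of_pos_right _ hD
  have gdD : g ∣ q - p := Nat.gcd_dvd_right _ _
  have hr0 : r ≠ 0 := fun h0 => hnt
    ((hcp.symm.dvd_mul_right).mp (Nat.dvd_of_mod_eq_zero h0))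
  have hrlt : r < q - p := Nat.mod_lt _ hD
  have hgr : Nat.gcd r (q - p) = g := by
    rw [hrdef, ← Nat.gcd_rec, Nat.gcd_comm, Nat.Coprime.gcd_mul_right_cancel m hcp]
    rfl
  have gdr : g ∣ r := hgr ▸ Nat.gcd_dvd_left _ _
  have hgb : g * b = q - p := Nat.mul_div_cancel' gdD
  have hgt : g * t = q - p - r := Nat.mul_div_cancel' (Nat.dvd_sub gdD gdr)
  have tpos : 0 < t := Nat.pos_of_ne_zero fun h0 => by rw [h0, mul_zero] at hgt; omega
  have tlt : t < b := lt_of_mul_lt_mul_left (a := g) (by omega) (Nat.zero_le _)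
  have cop : Nat.Coprime b t := by
    have h1 : Nat.gcd (q - p - r) (q - p) = g := by rw [Nat.gcd_self_sub_left hrlt.le, hgr]
    rw [← hgt, ← hgb, Nat.gcd_mul_left] at h1
    exact Nat.Coprime.symm (Nat.eq_of_mul_eq_mul_left gpos (h1.trans (mul_one g).symm))
  have hgbZ : ((q : ℤ) - p) = g * b := by
    rw [← Nat.cast_sub hpq.le, ← hgb, Nat.cast_mul]
  have hgtZ : ((alpha p q m + 1 : ℕ) : ℤ) * ((q : ℤ) - p) - p * m = g * t := by
    have h3 := Nat.div_add_mod (m * p) (q - p)
    have h4 : ((q - p : ℕ) : ℤ) * (alpha p q m : ℕ) + (r : ℕ) = (m : ℤ) * p := by exact_mod_cast h3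
    have h5 : ((g * t : ℕ) : ℤ) = ((q - p : ℕ) : ℤ) - (r : ℕ) := by rw [hgt, Nat.cast_sub hrlt.le]
    rw [← Nat.cast_sub hpq.le]
    push_cast at h4 h5 ⊢
    linear_combination -h5 + h4
  have nN_eq : ∀ i, nN p q m c i = g * NN t b c i := fun i => by
    simp only [nN, eE, lL, NN]
    push_cast at hgtZ ⊢
    linear_combination hjP c i * hgtZ - hjQ c i * hgbZ
  have hb0 : NN t b c 0 = b := by simp [NN, hjP, hjQ]
  have ht1 : NN t b c 1 = t := by simp [NN, hjP, hjQ]
  have key : ∀ i, i ≤ c.length → 0 < NN t b c i ∧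
      (i < c.length → NN t b c (i + 1) < NN t b c i ∧ 0 < NN t b c (i + 1) ∧
        HJFrac.hjVal (c.drop i) = (NN t b c i : ℚ) / (NN t b c (i + 1) : ℚ)) ∧
      (i = c.length → NN t b c (i + 1) = 0) ∧ IsCoprime (NN t b c i) (NN t b c (i + 1)) := by
    intro i
    induction i with
    | zero =>
      intro _
      refine ⟨by rw [hb0]; exact_mod_cast tpos.trans tlt, fun _ => ⟨by rw [hb0, ht1]; exact_mod_cast tlt,
        by rw [ht1]; exact_mod_cast tpos, by rw [List.drop_zero, hb0, ht1, hval, Int.cast_natCast, Int.cast_natCast]⟩, fun h0 => ?_, ?_⟩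
      · rw [List.length_eq_zero_iff.mp h0.symm, HJFrac.hjVal] at hval
        have : (0 : ℚ) < (b : ℚ) / (t : ℚ) := div_pos (by exact_mod_cast tpos.trans tlt) (by exact_mod_cast tpos)
        rw [← hval] at this
        exact absurd this (lt_irrefl _)
      · rw [hb0, ht1]; exact Nat.isCoprime_iff_coprime.mpr cop
    | succ i ih =>
      intro hi
      obtain ⟨hpos, hlt, -, hco⟩ := ih (by omega)
      obtain ⟨hlt1, hpos1, hv⟩ := hlt (by omega)
      have hsplit : c.drop i = c.getD i 0 :: c.drop (i + 1) := by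
        rw [List.getD_eq_getElem _ _ (by omega)]; exact List.drop_eq_getElem_cons _
      rw [hsplit, HJFrac.hjVal] at hv
      have hne : (NN t b c (i + 1) : ℚ) ≠ 0 := by exact_mod_cast hpos1.ne'
      have hinv : (HJFrac.hjVal (c.drop (i + 1)))⁻¹ = (NN t b c (i + 1 + 1) : ℚ) / (NN t b c (i + 1) : ℚ) := by
        rw [NN_add_two, Int.cast_sub, Int.cast_mul, sub_div, mul_div_assoc, div_self hne, mul_one, ← hv]
        ring
      refine ⟨hpos1, fun hlt' => ?_, fun heq => ?_, ?_⟩
      · have hone := one_lt_hjVal (c.drop (i + 1)) (by simp; omega) fun x hx => h2 x (List.mem_of_mem_drop hx)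
        have hv' : HJFrac.hjVal (c.drop (i + 1)) = (NN t b c (i + 1) : ℚ) / (NN t b c (i + 1 + 1) : ℚ) := by
          rw [← inv_inv (HJFrac.hjVal (c.drop (i + 1))), hinv, inv_div]
        have hp1 : (0 : ℚ) < (NN t b c (i + 1) : ℚ) := by exact_mod_cast hpos1
        have hp2 : (0 : ℚ) < (NN t b c (i + 1 + 1) : ℚ) := by
          rw [hv'] at hone
          rcases lt_trichotomy (0 : ℚ) (NN t b c (i + 1 + 1) : ℚ) with h | h | h
          · exact h
          · rw [← h, div_zero] at hone; linarith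
          · exact absurd (hone.trans (div_neg_of_pos_of_neg hp1 h)) (by norm_num)
        refine ⟨?_, by exact_mod_cast hp2, hv'⟩
        rw [hv', one_lt_div hp2] at hone
        exact_mod_cast hone
      · rw [heq, List.drop_length, HJFrac.hjVal, inv_zero, eq_comm, div_eq_zero_iff] at hinv
        rw [heq] at hne ⊢
        exact_mod_cast hinv.resolve_right hne
      · rw [NN_add_two, sub_eq_neg_add]
        exact (hco.symm.neg_right).add_mul_right_right _
  have hlast := key c.length le_rfl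
  have len : 0 < c.length := by
    rcases Nat.eq_zero_or_pos c.length with h0 | h0
    · have := (key 0 (by omega)).2.2.1 h0.symm
      rw [ht1] at this
      omega
    · exact h0
  have last : NN t b c c.length = 1 := by
    have := hlast.2.2.2
    rw [hlast.2.2.1 rfl, isCoprime_zero_right, Int.isUnit_iff] at this
    exact this.resolve_right fun h => by have := hlast.1; omega
  exact ⟨gpos, hgbZ, hgtZ, tpos, tlt, cop, h2, nN_eq, fun i hi => ((key i hi.le).2.1 hi).1, last,
    hlast.2.2.1 rfl, fun i hi => (key i hi).1, len⟩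

variable {p q m : ℕ} {c : List ℤ}

theorem Facts.le_b (F : Facts p q m c) : ∀ i, i ≤ c.length →
    NN (tT p q m) (bB p q m) c i ≤ bB p q m
  | 0, _ => by simp [NN, hjP, hjQ]
  | i + 1, hi => (F.lt_succ i (by omega)).le.trans (F.le_b i (by omega))

/-- The minimality of the Hirzebruch–Jung points. -/
theorem Facts.bounds (F : Facts p q m c) (j : ℕ) (hj : j < c.length) (x : ℤ) (hx0 : 0 < x) (hx : x < hjP c (j + 1)) :
    NN (tT p q m) (bB p q m) c j ≤ (tT p q m : ℤ) * x % (bB p q m : ℤ) ∧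
      (tT p q m : ℤ) * x % (bB p q m : ℤ) ≤
        bB p q m + NN (tT p q m) (bB p q m) c (j + 1) - NN (tT p q m) (bB p q m) c j := by
  set t := tT p q m
  set b := bB p q m
  set A := hjP c j
  set B := hjP c (j + 1)
  set U := NN t b c j
  set V := NN t b c (j + 1)
  obtain ⟨hAB, hA⟩ := hjP_lt c F.two_le j hj.le
  have hVU : V < U := F.lt_succ j hj
  have hV : 0 < V := F.pos (j + 1) (by omega)
  have hb : (0 : ℤ) < b := by exact_mod_cast F.tpos.trans F.tlt
  have hdet : B * U - A * V = b := det_eq t b c j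
  have hAb : b * hjQ c (j + 1) = (t : ℤ) * B - V := by simp only [V, NN]; ring
  have hAb' : b * hjQ c j = (t : ℤ) * A - U := by simp only [U, NN]; ring
  set r := (t : ℤ) * x % b
  have hr0 : 0 ≤ r := Int.emod_nonneg _ hb.ne'
  have hrb : r < b := Int.emod_lt_of_pos _ hb
  set Q := (t : ℤ) * x / b
  have hQ : b * Q + r = t * x := Int.mul_ediv_add_emod _ _
  -- coordinates of `(x, r)`
  set α := hjQ c (j + 1) * x - Q * B
  set β := Q * A - hjQ c j * x
  have hpq : hjQ c j * B - hjQ c (j + 1) * A = -1 := by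
    have : (b : ℤ) * (hjQ c j * B - hjQ c (j + 1) * A) = b * (-1) := by
      linear_combination B * hAb' - A * hAb - hdet
    exact mul_left_cancel₀ hb.ne' this
  have hx1 : α * A + β * B = x := by
    simp only [α, β]
    linear_combination -x * hpq
  have hr1 : α * U + β * V = r := by
    have : (b : ℤ) * (α * U + β * V) = b * r := by
      simp only [α, β]
      linear_combination (U * x) * hAb - (V * x) * hAb' + ((t : ℤ) * x - b * Q) * hdet - (b : ℤ) * hQ
    exact mul_left_cancel₀ hb.ne' this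
  have case1 : ∀ α β R : ℤ, α * A + β * B = x → α * U + β * V = R →
      (1 ≤ α ∧ U ≤ R) ∨ (α ≤ -1 ∧ R ≤ V - U) := by
    intro α β R h1 h2
    rcases le_or_gt 1 α with hα | hα
    · left
      refine ⟨hα, ?_⟩
      have hβ : β ≤ 0 := by nlinarith
      have : 1 ≤ α + β := by
        by_contra h
        nlinarith
      nlinarith
    · right
      have hβ : 1 ≤ β := by
        by_contra h
        nlinarith
      have hαβ : β ≤ -α := by
        by_contra h
        nlinarith
      exact ⟨by linarith, by nlinarith⟩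
  have hlow : U ≤ r := by
    rcases case1 α β r hx1 hr1 with ⟨-, h⟩ | ⟨-, h⟩
    · exact h
    · omega
  refine ⟨hlow, ?_⟩
  rcases case1 (α - B) (β + A) (r - b) (by linear_combination hx1) (by linear_combination hr1 - hdet) with
    ⟨-, h⟩ | ⟨-, h⟩ <;> omega

end Groth.Agent.W4Hilb
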